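import Groth.Agent.Lib.DCxKFlat.Derived
import Groth.Agent.Lib.DCxRing.Amplitude
import Groth.Agent.Lib.DCxRing.Homology
import Mathlib.CategoryTheory.Abelian.Projective.Extend
import Mathlib.CategoryTheory.Abelian.LeftDerived
import Mathlib.CategoryTheory.Monoidal.Tor

/-!
# Balancing `Tor`, and tor amplitude through the derived tensor product
-/

set_option autoImplicit false
set_option maxHeartbeats 800000
universe u

open CategoryTheory CategoryTheory.Limits MonoidalCategory HomologicalComplex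

attribute [local instance] HasDerivedCategory.standard

namespace GrothLib.KF

variable {A : Type u} [CommRing A]

lemma isKFlat_of_vanishesAbove {P : DRing.Cx A} {b : ℤ} (hb : DRing.VanishesAbove P b) (hP : DRing.TermwiseFlat P) :
    IsKFlat P :=
  isKFlat_of_bounded_above P b hb hP

lemma exactAt_iff_of_quasiIso {P Q : DRing.Cx A} (f : P ⟶ Q) [QuasiIso f] (i : ℤ) :
    P.ExactAt i ↔ Q.ExactAt i :=
  exactAt_iff_of_quasiIsoAt f i

/-- Balancing: `P ⊗ N` and `Q ⊗ M` are exact in the same degrees, for K-flat resolutions `P` of `M` and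
`Q` of `N`. -/
theorem exactAt_tensor_swap {P Q : DRing.Cx A} {M N : ModuleCat.{u} A}
    (q : P ⟶ (single (ModuleCat.{u} A) (ComplexShape.up ℤ) 0).obj M)
    (q' : Q ⟶ (single (ModuleCat.{u} A) (ComplexShape.up ℤ) 0).obj N)
    [QuasiIso q] [QuasiIso q'] (hP : IsKFlat P) (hQ : IsKFlat Q) (i : ℤ) :
    (DRing.tensorCx P N).ExactAt i ↔ (DRing.tensorCx Q M).ExactAt i := by
  haveI : QuasiIso (((tensorCx (R := A)).obj P).map q') := quasiIso_tensor_map_of_isKFlat q' P hP
  haveI : QuasiIso (((tensorCx (R := A)).obj Q).map q) := quasiIso_tensor_map_of_isKFlat q Q hQ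
  have e₁ : (DRing.tensorCx P N).ExactAt i ↔
      (((tensorCx (R := A)).obj P).obj ((single (ModuleCat.{u} A) (ComplexShape.up ℤ) 0).obj N)).ExactAt i :=
    exactAt_iff_of_quasiIso (singleIso P N).hom i
  have e₂ : (DRing.tensorCx Q M).ExactAt i ↔
      (((tensorCx (R := A)).obj Q).obj ((single (ModuleCat.{u} A) (ComplexShape.up ℤ) 0).obj M)).ExactAt i :=
    exactAt_iff_of_quasiIso (singleIso Q M).hom i
  rw [e₁, e₂, ← exactAt_iff_of_quasiIso (((tensorCx (R := A)).obj P).map q') i,
    ← exactAt_iff_of_quasiIso (((tensorCx (R := A)).obj Q).map q) i]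
  exact exactAt_iff_of_quasiIso (tensorCxSymm Q P).hom i

section Resolution

variable {N : ModuleCat.{u} A} (P : ProjectiveResolution N)

lemma vanishesAbove_cochainComplex : DRing.VanishesAbove P.cochainComplex 0 :=
  DR.vanishesAbove_of _ 0

lemma termwiseFlat_cochainComplex : DRing.TermwiseFlat P.cochainComplex :=
  DR.termwiseFlat_of_projective fun _ => (DR.projective_iff _).2 inferInstance

lemma isKFlat_cochainComplex : IsKFlat P.cochainComplex :=
  isKFlat_of_vanishesAbove (vanishesAbove_cochainComplex P) (termwiseFlat_cochainComplex P)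

/-- A projective resolution of a module is isomorphic to it in the derived category. -/
theorem nonempty_resolution_iso {M : Type u} [AddCommGroup M] [Module A M]
    (P : ProjectiveResolution (ModuleCat.of A M)) :
    Nonempty (DRing.toD P.cochainComplex ≅ Dual.inD A M) :=
  ⟨asIso (DerivedCategory.Q.map P.π') ≪≫ (((CategoryTheory.SingleFunctors.evaluation _ _ 0).mapIso
    (DerivedCategory.singleFunctorsPostcompQIso (ModuleCat.{u} A))).app (ModuleCat.of A M)).symm⟩

/-- `Tor` is the homology of the tensor product with the cochain resolution. -/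
theorem subsingleton_tor_iff (M : Type u) [AddCommGroup M] [Module A M] {N : Type u} [AddCommGroup N]
    [Module A N] (P : ProjectiveResolution (ModuleCat.of A N)) (p : ℕ) :
    Subsingleton (DRing.Tor A (p + 1) M N) ↔
      (DRing.tensorCx P.cochainComplex (ModuleCat.of A M)).ExactAt (-((p + 1 : ℕ) : ℤ)) := by
  let F := tensorLeft (ModuleCat.of A M)
  let C := (F.mapHomologicalComplex (ComplexShape.down ℕ)).obj P.complex
  have e : Subsingleton (DRing.Tor A (p + 1) M N) ↔ C.ExactAt (p + 1) := by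
    rw [DR.subsingleton_iff_isZero, exactAt_iff_isZero_homology]
    let i := P.isoLeftDerivedObj F (p + 1)
    exact ⟨fun h => h.of_iso i.symm, fun h => h.of_iso i⟩
  rw [e, exactAt_iff' C (p + 2) (p + 1) p (by simp) (by simp),
    exactAt_iff' (DRing.tensorCx P.cochainComplex (ModuleCat.of A M)) (-((p + 2 : ℕ) : ℤ))
      (-((p + 1 : ℕ) : ℤ)) (-((p : ℕ) : ℤ)) (by simp; omega) (by simp)]
  let τ : ∀ (n : ℤ) (k : ℕ), -(k : ℤ) = n →
      ((DRing.tensorCx P.cochainComplex (ModuleCat.of A M)).X n ≅ C.X k) := fun n k h =>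
    (tensorRight (ModuleCat.of A M)).mapIso (P.cochainComplexXIso n k h) ≪≫ β_ (P.complex.X k) (ModuleCat.of A M)
  have hτ : ∀ (n₁ n₂ : ℤ) (k₁ k₂ : ℕ) (h₁ : -(k₁ : ℤ) = n₁) (h₂ : -(k₂ : ℤ) = n₂),
      (τ n₁ k₁ h₁).hom ≫ C.d k₁ k₂ =
        (DRing.tensorCx P.cochainComplex (ModuleCat.of A M)).d n₁ n₂ ≫ (τ n₂ k₂ h₂).hom := by
    intro n₁ n₂ k₁ k₂ h₁ h₂
    change ((P.cochainComplexXIso n₁ k₁ h₁).hom ▷ ModuleCat.of A M ≫ (β_ _ _).hom) ≫
        ModuleCat.of A M ◁ P.complex.d k₁ k₂ =
      P.cochainComplex.d n₁ n₂ ▷ ModuleCat.of A M ≫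
        ((P.cochainComplexXIso n₂ k₂ h₂).hom ▷ ModuleCat.of A M ≫ (β_ _ _).hom)
    rw [P.cochainComplex_d n₁ n₂ k₁ k₂ h₁ h₂]
    simp only [comp_whiskerRight, Category.assoc, inv_hom_whiskerRight_assoc]
    rw [← BraidedCategory.braiding_naturality_left]
  refine (ShortComplex.exact_iff_of_iso (ShortComplex.isoMk (τ _ (p + 2) rfl) (τ _ (p + 1) rfl) (τ _ p rfl) ?_ ?_)).symm
  · exact hτ _ _ _ _ rfl rfl
  · exact hτ _ _ _ _ rfl rfl

end Resolution

/-- Tor dimension is tor amplitude. -/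
theorem hasTorDimLE_iff (M : Type u) [AddCommGroup M] [Module A M] (d : ℕ) :
    DRing.HasTorDimLE A d M ↔ DRing.HasTorAmplitudeIn A (-(d : ℤ)) 0 (Dual.inD A M) := by
  let P := projectiveResolution (ModuleCat.of A M)
  obtain ⟨e⟩ := nonempty_resolution_iso P
  have hiff : DRing.HasTorAmplitudeIn A (-(d : ℤ)) 0 (Dual.inD A M) ↔
      DRing.HasTorAmplitudeIn A (-(d : ℤ)) 0 (DRing.toD P.cochainComplex) :=
    ⟨DR.hasTorAmplitudeIn_of_iso e.symm, DR.hasTorAmplitudeIn_of_iso e⟩
  rw [hiff, DR.hasTorAmplitudeIn_iff (vanishesAbove_cochainComplex P) (termwiseFlat_cochainComplex P)]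
  have key : ∀ (N : Type u) [AddCommGroup N] [Module A N] (p : ℕ),
      Subsingleton (DRing.Tor A (p + 1) M N) ↔ DR.TExact P.cochainComplex N (-((p + 1 : ℕ) : ℤ)) := by
    intro N _ _ p
    rw [subsingleton_tor_iff M (projectiveResolution (ModuleCat.of A N)) p, DR.tExact_iff]
    exact (@exactAt_tensor_swap _ _ _ _ _ _ P.π' (projectiveResolution (ModuleCat.of A N)).π'
      (inferInstanceAs (QuasiIso P.π'))
      (inferInstanceAs (QuasiIso (projectiveResolution (ModuleCat.of A N)).π'))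
      (isKFlat_cochainComplex P) (isKFlat_cochainComplex _) _).symm
  constructor
  · intro h N _ _ i hi
    rcases hi with hi | hi
    · obtain ⟨p, rfl⟩ : ∃ p : ℕ, i = -((p + 1 : ℕ) : ℤ) := ⟨(-i - 1).toNat, by push_cast; omega⟩
      exact (key N p).1 (h N (p + 1) (by omega))
    · exact DR.tExact_of_isZero (vanishesAbove_cochainComplex P i hi) N
  · intro h N _ _ p hp
    obtain ⟨q, rfl⟩ : ∃ q, p = q + 1 := ⟨p - 1, by omega⟩
    exact (key N q).2 (h N _ (Or.inl (by omega)))

/-- Tensoring with the ring does nothing. -/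
noncomputable def tensorCxUnitIso (P : DRing.Cx A) : DRing.tensorCx P (ModuleCat.of A A) ≅ P :=
  HomologicalComplex.Hom.isoOfComponents (fun i => ρ_ (P.X i))
    (fun i j _ => (rightUnitor_naturality (P.d i j)).symm)

/-- Tor amplitude through the derived tensor product with modules. -/
theorem hasTorAmplitudeIn_iff_lTensor [∀ M : ModuleCat.{u} A, DRing.HasLTensor A M] (K : Dual.D A) (a b : ℤ) :
    DRing.HasTorAmplitudeIn A a b K ↔
      ∀ (M : ModuleCat.{u} A) (i : ℤ), (i < a ∨ b < i) →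
        Subsingleton (Dual.HD A ((DRing.LTensor A M).obj K) i) := by
  constructor
  · rintro ⟨E, hv, hE, ⟨e⟩⟩ M i hi
    obtain ⟨e'⟩ := lTensor_value M (isKFlat_of_vanishesAbove (fun j hj => hv j (Or.inr hj)) hE)
    refine DR.subsingleton_HD_of_iso ((DRing.LTensor A M).mapIso e.symm ≪≫ e').symm i ?_
    exact (DR.exactAt_iff _ i).1 (ShortComplex.exact_of_isZero_X₂ _ ((tensorRight M).map_isZero (hv i hi)))
  · intro h
    have hK : ∀ i, (i < a ∨ b < i) → Subsingleton (Dual.HD A K i) := fun i hi => by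
      let L := DerivedCategory.Q.objPreimage K
      obtain ⟨P, q, hP, -, hq, -⟩ := exists_kflat_resolution L
      haveI := hq
      obtain ⟨e'⟩ := lTensor_value (ModuleCat.of A A) hP
      exact DR.subsingleton_HD_of_iso ((DRing.LTensor A (ModuleCat.of A A)).mapIso
        ((asIso (DerivedCategory.Q.map q) ≪≫ DerivedCategory.Q.objObjPreimageIso K).symm) ≪≫ e' ≪≫
          DerivedCategory.Q.mapIso (tensorCxUnitIso P) ≪≫ asIso (DerivedCategory.Q.map q) ≪≫
            DerivedCategory.Q.objObjPreimageIso K) i (h _ i hi)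
    obtain ⟨P, hPv, hPp, ⟨e⟩⟩ := DR.exists_projective_rep K b fun i hi => hK i (Or.inr hi)
    refine DR.hasTorAmplitudeIn_of_iso e ((DR.hasTorAmplitudeIn_iff hPv (DR.termwiseFlat_of_projective hPp) a b).2 ?_)
    intro M _ _ i hi
    obtain ⟨e'⟩ := lTensor_value (ModuleCat.of A M) (isKFlat_of_vanishesAbove hPv (DR.termwiseFlat_of_projective hPp))
    rw [DR.tExact_iff, DR.exactAt_iff]
    exact DR.subsingleton_HD_of_iso ((DRing.LTensor A (ModuleCat.of A M)).mapIso e.symm ≪≫ e') i (h _ i hi)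

end GrothLib.KF
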