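import Groth.Agent.Lib.DCxKFlat.Bridge
import Groth.Agent.Lib.OX.TotalMap
import Mathlib.Algebra.Category.ModuleCat.ChangeOfRings
import Mathlib.LinearAlgebra.TensorProduct.Tower

/-!
# Base change of K-flat complexes
-/

set_option autoImplicit false
set_option maxHeartbeats 800000
universe u

open CategoryTheory CategoryTheory.Limits MonoidalCategory HomologicalComplex
open scoped TensorProduct

namespace GrothLib.KF

variable {R R' : Type u} [CommRing R] [CommRing R'] (φ : R →+* R')

/-- `M ⊗_{R'} (R' ⊗_R N) ≅ M ⊗_R N`, over `R`. -/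
noncomputable def restrictTensorExtendIso (M : ModuleCat.{u} R') (N : ModuleCat.{u} R) :
    (ModuleCat.restrictScalars φ).obj (M ⊗ (ModuleCat.extendScalars φ).obj N) ≅
      (ModuleCat.restrictScalars φ).obj M ⊗ N :=
  letI := φ.toAlgebra
  letI : Module R M := Module.compHom M φ
  haveI : IsScalarTower R R' M := ⟨fun r s m => by
    show ((φ r) * s) • m = φ r • s • m
    rw [mul_smul]⟩
  let e : M ⊗[R'] (R' ⊗[R] N) ≃ₗ[R'] M ⊗[R] N :=
    TensorProduct.AlgebraTensorModule.cancelBaseChange R R' R' M N
  LinearEquiv.toModuleIso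
    ({ toFun := e
       invFun := e.symm
       map_add' := e.map_add
       left_inv := e.left_inv
       right_inv := e.right_inv
       map_smul' := fun r x => by
         refine (e.map_smul (φ r) x).trans ?_
         exact (algebraMap_smul (M := M ⊗[R] N) R' r (e x)) } :
      ((ModuleCat.restrictScalars φ).obj (M ⊗ (ModuleCat.extendScalars φ).obj N)) ≃ₗ[R]
        ↑((ModuleCat.restrictScalars φ).obj M ⊗ N : ModuleCat.{u} R))

theorem restrictTensorExtendIso_natural₁ {M M' : ModuleCat.{u} R'} (g : M ⟶ M') (N : ModuleCat.{u} R) :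
    (ModuleCat.restrictScalars φ).map (g ▷ (ModuleCat.extendScalars φ).obj N) ≫
        (restrictTensorExtendIso φ M' N).hom =
      (restrictTensorExtendIso φ M N).hom ≫ (ModuleCat.restrictScalars φ).map g ▷ N := by
  letI := φ.toAlgebra
  letI : Module R M := Module.compHom M φ
  letI : Module R M' := Module.compHom M' φ
  apply ModuleCat.hom_ext
  ext x
  induction x using TensorProduct.induction_on with
  | zero => exact (map_zero _).trans (map_zero _).symm
  | tmul m y =>
    induction y using TensorProduct.induction_on with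
    | zero => erw [TensorProduct.tmul_zero]; exact (map_zero _).trans (map_zero _).symm
    | tmul s n =>
      show (s • g.hom m) ⊗ₜ[R] n = g.hom (s • m) ⊗ₜ[R] n
      rw [map_smul]
    | add a b ha hb => erw [TensorProduct.tmul_add]; exact (map_add _ _ _).trans (((congrArg₂ (· + ·) ha hb)).trans (map_add _ _ _).symm)
  | add a b ha hb => exact (map_add _ _ _).trans (((congrArg₂ (· + ·) ha hb)).trans (map_add _ _ _).symm)

theorem restrictTensorExtendIso_natural₂ (M : ModuleCat.{u} R') {N N' : ModuleCat.{u} R} (g : N ⟶ N') :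
    (ModuleCat.restrictScalars φ).map (M ◁ (ModuleCat.extendScalars φ).map g) ≫
        (restrictTensorExtendIso φ M N').hom =
      (restrictTensorExtendIso φ M N).hom ≫ (ModuleCat.restrictScalars φ).obj M ◁ g := by
  letI := φ.toAlgebra
  letI : Module R M := Module.compHom M φ
  apply ModuleCat.hom_ext
  ext x
  induction x using TensorProduct.induction_on with
  | zero => exact (map_zero _).trans (map_zero _).symm
  | tmul m y =>
    induction y using TensorProduct.induction_on with
    | zero => erw [TensorProduct.tmul_zero]; exact (map_zero _).trans (map_zero _).symm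
    | tmul s n =>
      show (s • m) ⊗ₜ[R] g.hom n = (s • m) ⊗ₜ[R] g.hom n
      rfl
    | add a b ha hb => erw [TensorProduct.tmul_add]; exact (map_add _ _ _).trans (((congrArg₂ (· + ·) ha hb)).trans (map_add _ _ _).symm)
  | add a b ha hb => exact (map_add _ _ _).trans (((congrArg₂ (· + ·) ha hb)).trans (map_add _ _ _).symm)

variable (L : CochainComplex (ModuleCat.{u} R') ℤ) (K : CochainComplex (ModuleCat.{u} R) ℤ)

/-- The bicomplex of `L ⊗_{R'} (K ⊗_R R')`, over `R`, is the bicomplex of `L ⊗_R K`. -/
noncomputable def bicxBaseChangeIso :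
    TotalMap.mapBicx (ModuleCat.restrictScalars φ)
      ((((curriedTensor (ModuleCat.{u} R')).mapBifunctorHomologicalComplex (ComplexShape.up ℤ) (ComplexShape.up ℤ)).obj L).obj
        (((ModuleCat.extendScalars φ).mapHomologicalComplex (ComplexShape.up ℤ)).obj K)) ≅
      (((curriedTensor (ModuleCat.{u} R)).mapBifunctorHomologicalComplex (ComplexShape.up ℤ) (ComplexShape.up ℤ)).obj
        (((ModuleCat.restrictScalars φ).mapHomologicalComplex (ComplexShape.up ℤ)).obj L)).obj K :=
  HomologicalComplex.Hom.isoOfComponents
    (fun i => HomologicalComplex.Hom.isoOfComponents (fun j => restrictTensorExtendIso φ (L.X i) (K.X j))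
      (fun j j' _ => (restrictTensorExtendIso_natural₂ φ (L.X i) (K.d j j')).symm))
    (fun i i' _ => HomologicalComplex.hom_ext _ _ fun j =>
      (restrictTensorExtendIso_natural₁ φ (L.d i i') (K.X j)).symm)

instance (J : Type) : HasColimitsOfShape (Discrete J) (ModuleCat.{u} R) := inferInstance

instance preservesCoproducts_restrictScalars (J : Type) :
    PreservesColimitsOfShape (Discrete J) (ModuleCat.restrictScalars.{u} φ) := by
  haveI : (ModuleCat.restrictScalars.{u} φ).IsLeftAdjoint :=
    ⟨_, ⟨ModuleCat.restrictCoextendScalarsAdj φ⟩⟩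
  haveI : PreservesColimitsOfSize.{u, u} (ModuleCat.restrictScalars.{u} φ) := inferInstance
  haveI : PreservesColimitsOfSize.{0, 0} (ModuleCat.restrictScalars.{u} φ) :=
    preservesSmallestColimits_of_preservesColimits _
  infer_instance

/-- `L ⊗_{R'} (K ⊗_R R')` is `L ⊗_R K`, over `R`. -/
noncomputable def baseChangeTensorIso :
    ((ModuleCat.restrictScalars φ).mapHomologicalComplex (ComplexShape.up ℤ)).obj
        (((tensorCx (R := R')).obj L).obj (((ModuleCat.extendScalars φ).mapHomologicalComplex (ComplexShape.up ℤ)).obj K)) ≅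
      ((tensorCx (R := R)).obj (((ModuleCat.restrictScalars φ).mapHomologicalComplex (ComplexShape.up ℤ)).obj L)).obj K :=
  (TotalMap.totalMapIso (ModuleCat.restrictScalars φ)
    ((((curriedTensor (ModuleCat.{u} R')).mapBifunctorHomologicalComplex (ComplexShape.up ℤ) (ComplexShape.up ℤ)).obj L).obj
        (((ModuleCat.extendScalars φ).mapHomologicalComplex (ComplexShape.up ℤ)).obj K))).symm ≪≫
    HomologicalComplex₂.total.mapIso (bicxBaseChangeIso φ L K) (ComplexShape.up ℤ)

theorem isKFlat_baseChange (hK : IsKFlat K) :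
    IsKFlat (((ModuleCat.extendScalars φ).mapHomologicalComplex (ComplexShape.up ℤ)).obj K) :=
  (isKFlat_iff _).2 fun M hM i => by
    have hM' : (((ModuleCat.restrictScalars φ).mapHomologicalComplex (ComplexShape.up ℤ)).obj M).Acyclic :=
      fun j => (hM j).map (ModuleCat.restrictScalars φ)
    have h := DerCat.acyclic_of_iso (baseChangeTensorIso φ M K).symm ((isKFlat_iff K).1 hK _ hM') i
    rw [exactAt_iff] at h ⊢
    exact ((((tensorCx (R := R')).obj M).obj _).sc i).exact_map_iff_of_faithful (ModuleCat.restrictScalars φ) |>.1 h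

end GrothLib.KF
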