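import Groth.Agent.Lib.DCxKFlat.Amplitude
import Groth.Agent.Lib.DCxRing.Covers

/-!
# Derived base change of K-flat complexes
-/

set_option autoImplicit false
set_option maxHeartbeats 800000
universe u

open CategoryTheory CategoryTheory.Limits MonoidalCategory HomologicalComplex

attribute [local instance] HasDerivedCategory.standard

namespace GrothLib.KF

variable {A B : Type u} [CommRing A] [CommRing B]

/-- An acyclic K-flat complex stays acyclic after tensoring with a module. -/
theorem acyclic_tensor_module {C : DRing.Cx A} (hC : C.Acyclic) (hK : IsKFlat C) (M : ModuleCat.{u} A) :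
    (DRing.tensorCx C M).Acyclic :=
  DerCat.acyclic_of_iso (singleIso C M).symm
    (DerCat.acyclic_of_iso (tensorCxSymm C _)
      (acyclic_tensor_of_acyclic_isKFlat hC hK ((single (ModuleCat.{u} A) (ComplexShape.up ℤ) 0).obj M)))

variable (φ : A →+* B)

/-- A quasi-isomorphism of K-flat complexes stays one after base change. -/
theorem quasiIso_bc_map {P Q : DRing.Cx A} (f : P ⟶ Q) [QuasiIso f] (hP : IsKFlat P) (hQ : IsKFlat Q) :
    QuasiIso ((DR.bc φ).map f) := by
  rw [DerCat.quasiIso_iff_acyclic_mappingCone]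
  refine DerCat.acyclic_of_iso
    (CochainComplex.mappingCone.mapHomologicalComplexIso f (ModuleCat.extendScalars.{u, u, u} φ)) fun i => ?_
  have h := acyclic_tensor_module ((DerCat.quasiIso_iff_acyclic_mappingCone f).1 inferInstance)
    (isKFlat_mappingCone f hP hQ)
  refine (DR.exactAt_bc_iff φ _ i).2 ?_
  letI := φ.toAlgebra
  exact (DR.tExact_iff _ _ _).2 (h (ModuleCat.of A B) i)

/-- Extension of scalars is derived by K-flat complexes. -/
theorem leftResolvable_baseChange :
    Derive.LeftResolvable (HomotopyCategory.quasiIso (ModuleCat.{u} A) (ComplexShape.up ℤ))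
      (fun P => IsKFlat P.as) (DRing.baseChangeKh φ) where
  exists_res G := by
    obtain ⟨Q, p, hQ, -, hp, -⟩ := exists_kflat_resolution G.as
    exact ⟨(HomotopyCategory.quotient _ _).obj Q, (HomotopyCategory.quotient _ _).map p, hQ,
      (HomotopyCategory.quotient_map_mem_quasiIso_iff p).2 hp⟩
  inverts Q Q' s hQ hQ' hs := by
    obtain ⟨f, rfl⟩ := (HomotopyCategory.quotient (ModuleCat.{u} A) (ComplexShape.up ℤ)).map_surjective s
    haveI : QuasiIso f := (HomotopyCategory.quotient_map_mem_quasiIso_iff f).1 hs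
    have hM := quasiIso_bc_map φ f hQ hQ'
    exact Localization.inverts DerivedCategory.Qh (HomotopyCategory.quasiIso (ModuleCat.{u} B) (ComplexShape.up ℤ)) _
      ((HomotopyCategory.quotient_map_mem_quasiIso_iff ((DR.bc φ).map f)).2 hM)

/-- Derived base change exists. -/
theorem hasLBaseChange : DRing.HasLBaseChange φ := (leftResolvable_baseChange φ).hasLeftDerivedFunctor

/-- Derived base change of a K-flat complex is termwise base change. -/
theorem lBase_value [DRing.HasLBaseChange φ] {K : DRing.Cx A} (hK : IsKFlat K) :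
    Nonempty ((DRing.LBaseChange φ).obj (DRing.toD K) ≅ DRing.toD ((DR.bc φ).obj K)) := by
  haveI := (leftResolvable_baseChange φ).isIso_app_of_isLeftDerivedFunctor
    (DRing.LBaseChange φ) ((DRing.baseChangeKh φ).totalLeftDerivedCounit DerivedCategory.Qh
      (HomotopyCategory.quasiIso (ModuleCat.{u} A) (ComplexShape.up ℤ)))
    (Q := (HomotopyCategory.quotient (ModuleCat.{u} A) (ComplexShape.up ℤ)).obj K) hK
  exact ⟨(DRing.LBaseChange φ).mapIso ((DerivedCategory.quotientCompQhIso (ModuleCat.{u} A)).app K).symm ≪≫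
    asIso (((DRing.baseChangeKh φ).totalLeftDerivedCounit DerivedCategory.Qh
      (HomotopyCategory.quasiIso (ModuleCat.{u} A) (ComplexShape.up ℤ))).app
        ((HomotopyCategory.quotient (ModuleCat.{u} A) (ComplexShape.up ℤ)).obj K)) ≪≫
    (DerivedCategory.quotientCompQhIso (ModuleCat.{u} B)).app ((DR.bc φ).obj K)⟩

/-- Tensoring with a restricted module is tensoring after base change. -/
noncomputable def tensorRestrictIso (P : DRing.Cx A) (M : ModuleCat.{u} B) :
    (DRing.restrictCx φ).obj (DRing.tensorCx ((DR.bc φ).obj P) M) ≅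
      DRing.tensorCx P ((ModuleCat.restrictScalars φ).obj M) :=
  HomologicalComplex.Hom.isoOfComponents
    (fun j => (ModuleCat.restrictScalars φ).mapIso (β_ ((ModuleCat.extendScalars φ).obj (P.X j)) M) ≪≫
      restrictTensorExtendIso φ M (P.X j) ≪≫ β_ _ _)
    fun j k _ => by
      change ((ModuleCat.restrictScalars φ).map (β_ _ _).hom ≫ (restrictTensorExtendIso φ M (P.X j)).hom ≫
          (β_ _ _).hom) ≫ P.d j k ▷ (ModuleCat.restrictScalars φ).obj M =
        (ModuleCat.restrictScalars φ).map ((ModuleCat.extendScalars φ).map (P.d j k) ▷ M) ≫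
          (ModuleCat.restrictScalars φ).map (β_ _ _).hom ≫ (restrictTensorExtendIso φ M (P.X k)).hom ≫ (β_ _ _).hom
      rw [← Functor.map_comp_assoc, BraidedCategory.braiding_naturality_left, Functor.map_comp_assoc,
        ← Category.assoc ((ModuleCat.restrictScalars φ).map (M ◁ _)), restrictTensorExtendIso_natural₂]
      simp only [Category.assoc]
      rw [← BraidedCategory.braiding_naturality_right]

/-- Exactness of `P ⊗ M` for a module `M` over `B`. -/
theorem exactAt_tensor_restrict_iff (P : DRing.Cx A) (M : ModuleCat.{u} B) (i : ℤ) :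
    (DRing.tensorCx P ((ModuleCat.restrictScalars φ).obj M)).ExactAt i ↔
      (DRing.tensorCx ((DR.bc φ).obj P) M).ExactAt i :=
  (exactAt_iff_of_iso (tensorRestrictIso φ P M) i).symm.trans (exactAt_restrict_iff φ _ i)

/-- Tor amplitude of a K-flat complex. -/
theorem hasTorAmplitudeIn_iff_kflat {P : DRing.Cx A} (hP : IsKFlat P) (a b : ℤ) :
    DRing.HasTorAmplitudeIn A a b (DRing.toD P) ↔
      ∀ (M : ModuleCat.{u} A) (i : ℤ), (i < a ∨ b < i) → (DRing.tensorCx P M).ExactAt i := by
  haveI := fun M : ModuleCat.{u} A => hasLTensor M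
  rw [hasTorAmplitudeIn_iff_lTensor]
  refine forall_congr' fun M => forall_congr' fun i => forall_congr' fun _ => ?_
  obtain ⟨e⟩ := lTensor_value M hP
  rw [DR.exactAt_iff]
  exact ⟨DR.subsingleton_HD_of_iso e i, DR.subsingleton_HD_of_iso e.symm i⟩

/-- A K-flat representative with flat terms. -/
theorem exists_kflat_rep (K : Dual.D A) :
    ∃ P : DRing.Cx A, IsKFlat P ∧ DRing.TermwiseFlat P ∧ Nonempty (DRing.toD P ≅ K) := by
  obtain ⟨P, p, hP, hPf, hp, -⟩ := exists_kflat_resolution (DerivedCategory.Q.objPreimage K)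
  haveI := hp
  exact ⟨P, hP, hPf, ⟨asIso (DerivedCategory.Q.map p) ≪≫ DerivedCategory.Q.objObjPreimageIso K⟩⟩

theorem isKFlat_bc {P : DRing.Cx A} (hP : IsKFlat P) : IsKFlat ((DR.bc φ).obj P) :=
  isKFlat_baseChange φ P hP

end GrothLib.KF
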