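import Groth.Agent.Lib.DCxKFlat.KFlatBounded
import Groth.Agent.Lib.DCxKFlat.TensorSymm
import Groth.Prelude.Def_DRing4

/-!
# K-flatness for the monoidal structure on complexes of modules, filtered colimits, universally acyclic complexes
-/

set_option autoImplicit false
set_option maxHeartbeats 800000
universe u

open CategoryTheory CategoryTheory.Limits MonoidalCategory HomologicalComplex GrothLib.Trunc

namespace GrothLib.KF

variable {R : Type u} [CommRing R]

attribute [local instance] Abelian.hasFiniteBiproducts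

/-- K-flatness, in the terms of the monoidal structure on complexes. -/
theorem isKFlat_iff_tensor (K : DRing.Cx R) :
    (∀ L : DRing.Cx R, (∀ i : ℤ, IsZero (L.homology i)) → ∀ i : ℤ, IsZero ((L ⊗ K).homology i)) ↔ IsKFlat K :=
  Iff.rfl

theorem flatTerms_iff (K : DRing.Cx R) : DRing.TermwiseFlat K ↔ FlatTerms K := Iff.rfl

section Filtered

variable {J : Type u} [SmallCategory J] [IsFiltered J]

/-- A filtered colimit of acyclic complexes of modules is acyclic. -/
theorem acyclic_colimit_filtered (F : J ⥤ CochainComplex (ModuleCat.{u} R) ℤ)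
    (h : ∀ j, (F.obj j).Acyclic) : (colimit F).Acyclic := fun i => by
  let c := ComplexShape.up ℤ
  let d : ∀ k k', F ⋙ eval (ModuleCat.{u} R) c k ⟶ F ⋙ eval (ModuleCat.{u} R) c k' := fun k k' =>
    { app := fun j => (F.obj j).d k k'
      naturality := fun _ _ f => (F.map f).comm k k' }
  let S : ShortComplex (J ⥤ ModuleCat.{u} R) := ShortComplex.mk (d (c.prev i) i) (d i (c.next i))
    (by ext j : 2; exact (F.obj j).d_comp_d _ _ _)
  have hS : S.Exact := by
    rw [ShortComplex.exact_iff_isZero_homology]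
    refine Functor.isZero _ fun j => ?_
    exact IsZero.of_iso ((ShortComplex.exact_iff_isZero_homology _).1 (h j i))
      (S.mapHomologyIso ((evaluation J (ModuleCat.{u} R)).obj j)).symm
  haveI : HasExactColimitsOfShape J (ModuleCat.{u} R) := AB5OfSize.ofShape J
  refine ShortComplex.exact_of_iso ?_ (hS.map (colim (J := J) (C := ModuleCat.{u} R)))
  exact ShortComplex.isoMk (preservesColimitIso (eval (ModuleCat.{u} R) c (c.prev i)) F).symm
    (preservesColimitIso (eval (ModuleCat.{u} R) c i) F).symm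
    (preservesColimitIso (eval (ModuleCat.{u} R) c (c.next i)) F).symm
    (by
      refine colimit.hom_ext fun j => ?_
      simp only [Iso.symm_hom, ShortComplex.map_f, S]
      erw [ι_preservesColimitIso_inv_assoc, ι_colimMap_assoc, ι_preservesColimitIso_inv]
      simp [d]
      exact (colimit.ι F j).comm _ _)
    (by
      refine colimit.hom_ext fun j => ?_
      simp only [Iso.symm_hom, ShortComplex.map_g, S]
      erw [ι_preservesColimitIso_inv_assoc, ι_colimMap_assoc, ι_preservesColimitIso_inv]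
      simp [d]
      exact (colimit.ι F j).comm _ _)

/-- A filtered colimit of K-flat complexes is K-flat. -/
theorem isKFlat_colimit_filtered (F : J ⥤ CochainComplex (ModuleCat.{u} R) ℤ) (h : ∀ j, IsKFlat (F.obj j)) :
    IsKFlat (colimit F) :=
  (isKFlat_iff _).2 fun L hL => DerCat.acyclic_of_iso
    (preservesColimitIso ((tensorCx (R := R)).obj L) F).symm
    (acyclic_colimit_filtered _ fun j => (isKFlat_iff _).1 (h j) L hL)

end Filtered

/-- A cocone on a sequence whose legs are eventually isomorphisms is a colimit. -/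
noncomputable def isColimitOfEventuallyIso {C : Type*} [Category C] {F : ℕ ⥤ C} (c : Cocone F) (k₀ : ℕ)
    (h : ∀ k, k₀ ≤ k → IsIso (c.ι.app k)) : IsColimit c := by
  haveI := h k₀ le_rfl
  refine { desc := fun s => inv (c.ι.app k₀) ≫ s.ι.app k₀, fac := fun s k => ?_, uniq := fun s m hm => ?_ }
  · have hmax : ∀ m, k₀ ≤ m → c.ι.app m ≫ inv (c.ι.app k₀) ≫ s.ι.app k₀ = s.ι.app m := fun m hm => by
      haveI := h m hm
      haveI : IsIso (F.map (homOfLE hm) ≫ c.ι.app m) := by rw [c.w]; infer_instance
      haveI : IsIso (F.map (homOfLE hm)) := IsIso.of_isIso_comp_right _ (c.ι.app m)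
      rw [← cancel_epi (F.map (homOfLE hm)), c.w_assoc, IsIso.hom_inv_id_assoc, s.w]
    rcases le_total k₀ k with hk | hk
    · exact hmax k hk
    · rw [← c.w (homOfLE hk), Category.assoc, hmax k₀ le_rfl, s.w]
  · rw [← hm k₀, IsIso.inv_hom_id_assoc]

/-- K-flatness only depends on the homotopy type. -/
theorem isKFlat_of_homotopyEquiv {K K' : CochainComplex (ModuleCat.{u} R) ℤ} (e : HomotopyEquiv K K')
    (h : IsKFlat K) : IsKFlat K' :=
  (isKFlat_iff K').2 fun L hL i => by
    have hi := (isKFlat_iff K).1 h L hL i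
    rw [exactAt_iff_isZero_homology] at hi ⊢
    let E : HomotopyEquiv ((((tensorCx (R := R)).obj L).obj K)) (((tensorCx (R := R)).obj L).obj K') :=
      { hom := ((tensorCx (R := R)).obj L).map e.hom
        inv := ((tensorCx (R := R)).obj L).map e.inv
        homotopyHomInvId := (Homotopy.ofEq (Functor.map_comp _ _ _).symm).trans
          ((mapBifunctorMapHomotopy₂ (f₁ := 𝟙 L) e.homotopyHomInvId (curriedTensor (ModuleCat.{u} R))
            (ComplexShape.up ℤ)).trans (Homotopy.ofEq (((tensorCx (R := R)).obj L).map_id _)))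
        homotopyInvHomId := (Homotopy.ofEq (Functor.map_comp _ _ _).symm).trans
          ((mapBifunctorMapHomotopy₂ (f₁ := 𝟙 L) e.homotopyInvHomId (curriedTensor (ModuleCat.{u} R))
            (ComplexShape.up ℤ)).trans (Homotopy.ofEq (((tensorCx (R := R)).obj L).map_id _))) }
    exact hi.of_iso (E.toHomologyIso i).symm

section FinitePresentation

/-- Exactness of `- ⊗ M` on a complex follows from the finitely presented modules. -/
theorem exactAt_tensor_of_fp (K : DRing.Cx R)
    (hK : ∀ (M : Type u) [AddCommGroup M] [Module R M], Module.FinitePresentation R M →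
      ∀ i : ℤ, IsZero ((DRing.tensorCx K (ModuleCat.of R M)).homology i))
    (M : ModuleCat.{u} R) : (DRing.tensorCx K M).Acyclic := fun i => by
  classical
  rw [exactAt_iff' _ (i - 1) i (i + 1) (by simp) (by simp), ShortComplex.moduleCat_exact_iff]
  intro x hx
  let π : (M →₀ R) →ₗ[R] M := Finsupp.linearCombination R (id : M → M)
  have hπ : Function.Surjective π := fun m => ⟨Finsupp.single m 1, by simp [π]⟩
  obtain ⟨x', hx'⟩ := LinearMap.lTensor_surjective (K.X i) hπ x
  change (K.d i (i + 1)).hom.rTensor M x = 0 at hx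
  have hker : LinearMap.lTensor (K.X (i + 1)) π ((K.d i (i + 1)).hom.rTensor (M →₀ R) x') = 0 := by
    rw [← LinearMap.comp_apply, LinearMap.lTensor_comp_rTensor, ← LinearMap.rTensor_comp_lTensor,
      LinearMap.comp_apply, hx', hx]
  obtain ⟨y, hy⟩ := (lTensor_exact (K.X (i + 1)) (M := ↥(LinearMap.ker π)) (f := (LinearMap.ker π).subtype) (g := π) (by exact LinearMap.exact_subtype_ker_map π) hπ _).1 hker
  obtain ⟨S, hS⟩ := TensorProduct.exists_finset x'
  obtain ⟨T, hT⟩ := TensorProduct.exists_finset y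
  let s : Finset M := S.biUnion (fun p => p.2.support) ∪ T.biUnion (fun p => (p.2 : M →₀ R).support)
  let e : (s →₀ R) →ₗ[R] (M →₀ R) := Finsupp.lmapDomain R R (Subtype.val : s → M)
  let r : (M →₀ R) →ₗ[R] (s →₀ R) := Finsupp.lcomapDomain (Subtype.val : s → M) Subtype.val_injective
  have her : ∀ f : M →₀ R, f.support ⊆ s → e (r f) = f := fun f hf =>
    Finsupp.mapDomain_comapDomain _ Subtype.val_injective _ (fun m hm => ⟨⟨m, hf (Finset.mem_coe.1 hm)⟩, rfl⟩)
  let N₀ : Submodule R (s →₀ R) := Submodule.span R ((T.image fun p => r (p.2 : M →₀ R)) : Set (s →₀ R))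
  haveI hfp : Module.FinitePresentation R ((s →₀ R) ⧸ N₀) :=
    Module.finitePresentation_of_surjective N₀.mkQ N₀.mkQ_surjective (by
      rw [Submodule.ker_mkQ]; exact ⟨_, rfl⟩)
  have hle : N₀ ≤ LinearMap.ker (π.comp e) := by
    refine Submodule.span_le.2 fun f hf => ?_
    obtain ⟨p, hp, rfl⟩ := Finset.mem_image.1 (Finset.mem_coe.1 hf)
    show π (e (r p.2)) = 0
    rw [her _ (fun m hm => Finset.mem_union_right _ (Finset.mem_biUnion.2 ⟨p, hp, hm⟩))]
    exact p.2.2
  let q : ((s →₀ R) ⧸ N₀) →ₗ[R] M := N₀.liftQ (π.comp e) hle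
  have hex := hK ((s →₀ R) ⧸ N₀) hfp i
  rw [← exactAt_iff_isZero_homology, exactAt_iff' _ (i - 1) i (i + 1) (by simp) (by simp),
    ShortComplex.moduleCat_exact_iff] at hex
  let x₀ : TensorProduct R (K.X i) ((s →₀ R) ⧸ N₀) := LinearMap.lTensor (K.X i) (N₀.mkQ.comp r) x'
  have hd : (K.d i (i + 1)).hom.rTensor ((s →₀ R) ⧸ N₀) x₀ = 0 := by
    simp only [x₀]
    rw [← LinearMap.comp_apply, LinearMap.rTensor_comp_lTensor, ← LinearMap.lTensor_comp_rTensor,
      LinearMap.comp_apply, ← hy, hT, map_sum, map_sum]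
    refine Finset.sum_eq_zero fun p hp => ?_
    rw [LinearMap.lTensor_tmul, LinearMap.lTensor_tmul]
    have hmem : N₀.mkQ (r (p.2 : M →₀ R)) = 0 :=
      (Submodule.Quotient.mk_eq_zero N₀).2 (Submodule.subset_span (Finset.mem_coe.2 (Finset.mem_image_of_mem _ hp)))
    show p.1 ⊗ₜ[R] N₀.mkQ (r (p.2 : M →₀ R)) = 0
    rw [hmem, TensorProduct.tmul_zero]
  obtain ⟨z, hz⟩ := hex x₀ hd
  change (K.d (i - 1) i).hom.rTensor ((s →₀ R) ⧸ N₀) z = x₀ at hz
  refine ⟨LinearMap.lTensor (K.X (i - 1)) q z, ?_⟩
  change (K.d (i - 1) i).hom.rTensor M (LinearMap.lTensor (K.X (i - 1)) q z) = x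
  rw [← LinearMap.comp_apply, LinearMap.rTensor_comp_lTensor, ← LinearMap.lTensor_comp_rTensor,
    LinearMap.comp_apply, hz, ← hx']
  simp only [x₀]
  rw [hS, map_sum, map_sum, map_sum]
  refine Finset.sum_congr rfl fun p hp => ?_
  rw [LinearMap.lTensor_tmul, LinearMap.lTensor_tmul, LinearMap.lTensor_tmul]
  show p.1 ⊗ₜ[R] (π (e (r p.2))) = p.1 ⊗ₜ[R] π p.2
  rw [her _ (fun m hm => Finset.mem_union_left _ (Finset.mem_biUnion.2 ⟨p, hp, hm⟩))]

end FinitePresentation

section Universal

/-- The subcomplex of `E` formed by the degrees `< n` and the cycles in degree `n`. -/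
noncomputable def leSub (E : CochainComplex (ModuleCat.{u} R) ℤ) (n i : ℤ) : Submodule R (E.X i) :=
  if i < n then ⊤ else if i = n then LinearMap.ker (E.d i (i + 1)).hom else ⊥

theorem d_mem_leSub (E : CochainComplex (ModuleCat.{u} R) ℤ) (n i j : ℤ) (x : E.X i) (hx : x ∈ leSub E n i) :
    (E.d i j).hom x ∈ leSub E n j := by
  by_cases hij : i + 1 = j
  · subst hij
    unfold leSub at *
    split_ifs with h1 h2
    · trivial
    · rw [LinearMap.mem_ker, ← LinearMap.comp_apply, ← ModuleCat.hom_comp, E.d_comp_d]; rfl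
    · rw [if_neg (by omega)] at hx
      split_ifs at hx with h3
      · exact hx
      · rw [Submodule.mem_bot] at hx; rw [hx, map_zero]; exact zero_mem _
  · rw [E.shape i j hij]; exact Submodule.zero_mem _

/-- The canonical truncation as a subcomplex. -/
noncomputable def leObj (E : CochainComplex (ModuleCat.{u} R) ℤ) (n : ℤ) :
    CochainComplex (ModuleCat.{u} R) ℤ where
  X i := ModuleCat.of R (leSub E n i)
  d i j := ModuleCat.ofHom ((E.d i j).hom.restrict fun x hx => d_mem_leSub E n i j x hx)
  shape i j h := by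
    ext x
    show (E.d i j).hom x.1 = 0
    rw [E.shape i j h]; rfl
  d_comp_d' i j k _ _ := by
    ext x
    show (E.d j k).hom ((E.d i j).hom x.1) = 0
    rw [← LinearMap.comp_apply, ← ModuleCat.hom_comp, E.d_comp_d]; rfl

theorem leSub_mono (E : CochainComplex (ModuleCat.{u} R) ℤ) {n m : ℤ} (h : n ≤ m) (i : ℤ) :
    leSub E n i ≤ leSub E m i := by
  unfold leSub
  split_ifs <;> first | exact le_top | exact bot_le | exact le_rfl | omega

/-- The transition maps. -/
noncomputable def leMap (E : CochainComplex (ModuleCat.{u} R) ℤ) {n m : ℤ} (h : n ≤ m) :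
    leObj E n ⟶ leObj E m where
  f i := ModuleCat.ofHom (Submodule.inclusion (leSub_mono E h i))
  comm' i j _ := by ext x; rfl

/-- The inclusion. -/
noncomputable def leι (E : CochainComplex (ModuleCat.{u} R) ℤ) (n : ℤ) : leObj E n ⟶ E where
  f i := ModuleCat.ofHom (Submodule.subtype _)
  comm' i j _ := by ext x; rfl

theorem mono_leι_f (E : CochainComplex (ModuleCat.{u} R) ℤ) (n i : ℤ) : Mono ((leι E n).f i) :=
  (ModuleCat.mono_iff_injective _).2 Subtype.val_injective

theorem isIso_leι_f (E : CochainComplex (ModuleCat.{u} R) ℤ) {n i : ℤ} (h : i < n) : IsIso ((leι E n).f i) := by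
  rw [ConcreteCategory.isIso_iff_bijective]
  refine ⟨fun x y hxy => Subtype.ext hxy, fun x => ⟨⟨x, ?_⟩, rfl⟩⟩
  rw [leSub, if_pos h]; trivial

theorem isZero_leObj_X (E : CochainComplex (ModuleCat.{u} R) ℤ) {n i : ℤ} (h : n < i) :
    IsZero ((leObj E n).X i) := by
  haveI : Subsingleton ((leObj E n).X i) := by
    show Subsingleton (leSub E n i)
    rw [leSub, if_neg (by omega), if_neg (by omega)]
    infer_instance
  exact ModuleCat.isZero_of_subsingleton _

/-- The sequence of truncations. -/
noncomputable def leFun (E : CochainComplex (ModuleCat.{u} R) ℤ) : ℕ ⥤ CochainComplex (ModuleCat.{u} R) ℤ :=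
  Functor.ofSequence (X := fun k : ℕ => leObj E k) fun _ => leMap E (by push_cast; omega)

/-- The cocone with point `E`. -/
noncomputable def leCocone (E : CochainComplex (ModuleCat.{u} R) ℤ) : Cocone (leFun E) :=
  ⟨E, NatTrans.ofSequence (fun k : ℕ => leι E k) fun k =>
    (congrArg (· ≫ _) (Functor.ofSequence_map_homOfLE_succ _ k)).trans (by ext i x; rfl)⟩

theorem nonempty_isColimit_leCocone (E : CochainComplex (ModuleCat.{u} R) ℤ) :
    Nonempty (IsColimit (leCocone E)) :=
  ⟨HomologicalComplex.isColimitOfEval _ _ fun i =>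
    isColimitOfEventuallyIso _ (i.toNat + 1) fun k hk => isIso_leι_f E (by omega)⟩

variable (K : CochainComplex (ModuleCat.{u} R) ℤ)

/-- If `K ⊗ M` is acyclic for all modules `M`, then `K ⊗ L` is acyclic for all complexes `L`. -/
theorem acyclic_tensor_of_universally_acyclic (hK : ∀ M : ModuleCat.{u} R, (DRing.tensorCx K M).Acyclic)
    (L : CochainComplex (ModuleCat.{u} R) ℤ) : (((tensorCx (R := R)).obj K).obj L).Acyclic := by
  have hsingle : ∀ (M : ModuleCat.{u} R) (a : ℤ),
      (((tensorCx (R := R)).obj K).obj ((single (ModuleCat.{u} R) (ComplexShape.up ℤ) a).obj M)).Acyclic := by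
    intro M a
    have h0 : (((tensorCx (R := R)).obj K).obj ((single (ModuleCat.{u} R) (ComplexShape.up ℤ) 0).obj M)).Acyclic :=
      DerCat.acyclic_of_iso (singleIso K M) (hK M)
    let e₁ := ((((tensorCx (R := R)).obj K).commShiftIso (-a)).app
      ((single (ModuleCat.{u} R) (ComplexShape.up ℤ) 0).obj M)).symm
    let e₂ := ((tensorCx (R := R)).obj K).mapIso
      (((CochainComplex.singleFunctors (ModuleCat.{u} R)).shiftIso (-a) a 0 (by omega)).app M)
    exact DerCat.acyclic_of_iso (e₁ ≪≫ e₂)
      (DerCat.acyclic_shift h0 (-a))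
  have hcolim : ∀ (F : ℕ ⥤ CochainComplex (ModuleCat.{u} R) ℤ) (c : Cocone F), IsColimit c →
      (∀ k, (((tensorCx (R := R)).obj K).obj (F.obj k)).Acyclic) →
        (((tensorCx (R := R)).obj K).obj c.pt).Acyclic := fun F c hc h =>
    DerCat.acyclic_of_iso ((preservesColimitIso ((tensorCx (R := R)).obj K) F).symm ≪≫
      ((tensorCx (R := R)).obj K).mapIso ((colimit.isColimit F).coconePointUniqueUpToIso hc))
      (DerCat.acyclic_colimit _ h)
  have hbdd : ∀ (E : CochainComplex (ModuleCat.{u} R) ℤ) (b : ℤ), (∀ n, b < n → IsZero (E.X n)) →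
      (((tensorCx (R := R)).obj K).obj E).Acyclic := by
    intro E b hb
    refine hcolim (geFun E (b + 1)) (geCocone E (b + 1)) (isColimitGeCocone E (b + 1)) fun k => ?_
    change (((tensorCx (R := R)).obj K).obj (geObj E (b + 1 - k))).Acyclic
    induction k with
    | zero =>
      have hz : IsZero (geObj E (b + 1 - (0 : ℕ))) := (IsZero.iff_id_eq_zero _).2 (hom_ext _ _ fun n => by
        by_cases h : b + 1 - ((0 : ℕ) : ℤ) ≤ n
        · have := isIso_geι_f E _ h
          exact ((hb n (by omega)).of_iso (asIso ((geι E _).f n))).eq_of_src _ _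
        · exact (isZero_geObj_X E _ h).eq_of_src _ _)
      exact fun i => ShortComplex.exact_of_isZero_X₂ _
        ((eval (ModuleCat.{u} R) _ i).map_isZero (((tensorCx (R := R)).obj K).map_isZero hz))
    | succ k ih =>
      let a := b + 1 - ((k + 1 : ℕ) : ℤ)
      let S := ShortComplex.mk _ _ (geMap_geTop E a (by omega))
      have σ : ∀ q, (S.map (eval (ModuleCat.{u} R) (ComplexShape.up ℤ) q)).Splitting := fun q => by
        have hse := (geShortExact E a).map_of_exact (eval (ModuleCat.{u} R) (ComplexShape.up ℤ) q)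
        by_cases hq : q = a
        · have hz : IsZero (S.map (eval (ModuleCat.{u} R) (ComplexShape.up ℤ) q)).X₁ :=
            isZero_geObj_X E _ (by omega)
          exact ShortComplex.Splitting.ofIsZeroOfIsIso _ hz
            ((hse.exact.mono_g (hz.eq_of_src _ _)) |> fun h => @isIso_of_mono_of_epi _ _ _ _ _ _ h hse.epi_g)
        · have hz : IsZero (S.map (eval (ModuleCat.{u} R) (ComplexShape.up ℤ) q)).X₃ :=
            isZero_single_obj_X (ComplexShape.up ℤ) a _ q hq
          exact ShortComplex.Splitting.ofIsIsoOfIsZero _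
            ((hse.exact.epi_f (hz.eq_of_tgt _ _)) |> fun h => @isIso_of_mono_of_epi _ _ _ _ _ _ hse.mono_f h) hz
      refine DerCat.acyclic_X₂ (tensorCx_shortExact_of_splitting σ K) ?_ (hsingle _ _)
      show (((tensorCx (R := R)).obj K).obj (geObj E (a + 1))).Acyclic
      rwa [show a + 1 = b + 1 - (k : ℤ) by simp only [a]; push_cast; omega]
  obtain ⟨hc⟩ := nonempty_isColimit_leCocone L
  refine hcolim (leFun L) (leCocone L) hc fun k => hbdd _ (k : ℤ) fun n hn => ?_
  exact isZero_leObj_X L hn

/-- A complex `K` with `K ⊗ M` acyclic for all finitely presented `M` is K-flat. -/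
theorem isKFlat_of_fp (K : DRing.Cx R)
    (hK : ∀ (M : Type u) [AddCommGroup M] [Module R M], Module.FinitePresentation R M →
      ∀ i : ℤ, IsZero ((DRing.tensorCx K (ModuleCat.of R M)).homology i)) : IsKFlat K :=
  (isKFlat_iff K).2 fun L _ => DerCat.acyclic_of_iso (tensorCxSymm L K)
    (acyclic_tensor_of_universally_acyclic K (exactAt_tensor_of_fp K hK) L)

end Universal

end GrothLib.KF
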