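import Groth.Agent.Lib.DCxKFlat.Balance
import Groth.Agent.Lib.DCxKFlat.BaseChange
import Groth.Agent.Lib.DCxRing.Restrict

/-!
# Tor amplitude of tensor products of complexes
-/

set_option autoImplicit false
set_option maxHeartbeats 800000
universe u

open CategoryTheory CategoryTheory.Limits MonoidalCategory HomologicalComplex

attribute [local instance] HasDerivedCategory.standard

namespace GrothLib.KF

variable {A : Type u} [CommRing A]

lemma exactAt_iff_of_iso {P Q : DRing.Cx A} (e : P ≅ Q) (i : ℤ) : P.ExactAt i ↔ Q.ExactAt i :=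
  ⟨fun h => h.of_iso e, fun h => h.of_iso e.symm⟩

/-- The derived tensor product with a module, computed by a resolution of the module. -/
theorem lTensor_value_resolution (M : ModuleCat.{u} A) [DRing.HasLTensor A M] (X : DRing.Cx A) {Q : DRing.Cx A}
    (q : Q ⟶ (single (ModuleCat.{u} A) (ComplexShape.up ℤ) 0).obj M) [QuasiIso q] (hQ : IsKFlat Q) :
    Nonempty ((DRing.LTensor A M).obj (DRing.toD X) ≅ DRing.toD (X ⊗ Q)) := by
  obtain ⟨P, p, hP, -, hp, -⟩ := exists_kflat_resolution X
  obtain ⟨e⟩ := lTensor_value M hP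
  haveI := hp
  haveI : QuasiIso (((tensorCx (R := A)).obj P).map q) := quasiIso_tensor_map_of_isKFlat q P hP
  have hpQ : QuasiIso (p ▷ Q) := quasiIso_map_of_isKFlat p Q hQ
  have hiso : IsIso (DerivedCategory.Q.map (p ▷ Q)) := (DerivedCategory.isIso_Q_map_iff_quasiIso (ModuleCat.{u} A) (p ▷ Q)).2 hpQ
  exact ⟨(DRing.LTensor A M).mapIso (asIso (DerivedCategory.Q.map p)).symm ≪≫ e ≪≫
    DerivedCategory.Q.mapIso (singleIso P M) ≪≫
    (asIso (DerivedCategory.Q.map (((tensorCx (R := A)).obj P).map q))).symm ≪≫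
    @asIso _ _ _ _ _ hiso⟩

/-- Tor amplitude, tested by tensoring with projective resolutions of modules. -/
theorem hasTorAmplitudeIn_iff_resolution (X : DRing.Cx A) (a b : ℤ) :
    DRing.HasTorAmplitudeIn A a b (DRing.toD X) ↔
      ∀ (N : ModuleCat.{u} A) (i : ℤ), (i < a ∨ b < i) →
        (X ⊗ (projectiveResolution N).cochainComplex).ExactAt i := by
  haveI := fun M : ModuleCat.{u} A => hasLTensor M
  rw [hasTorAmplitudeIn_iff_lTensor]
  refine forall_congr' fun N => forall_congr' fun i => forall_congr' fun _ => ?_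
  obtain ⟨e⟩ := @lTensor_value_resolution _ _ N _ X _ (projectiveResolution N).π'
    (inferInstanceAs (QuasiIso (projectiveResolution N).π')) (isKFlat_cochainComplex (projectiveResolution N))
  rw [DR.exactAt_iff]
  exact ⟨DR.subsingleton_HD_of_iso e i, DR.subsingleton_HD_of_iso e.symm i⟩

/-- A tensor product of bounded complexes is bounded. -/
lemma vanishesOutside_tensor {E X : DRing.Cx A} {a b c d : ℤ} (hE : DRing.VanishesOutside E a b)
    (hX : DRing.VanishesOutside X c d) : DRing.VanishesOutside (E ⊗ X) (a + c) (b + d) := fun n hn => by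
  refine (IsZero.iff_id_eq_zero _).2 (HomologicalComplex.mapBifunctor.hom_ext fun p q h => ?_)
  have h' : p + q = n := h
  refine IsZero.eq_of_src ?_ _ _
  by_cases hp : p < a ∨ b < p
  · exact ((curriedTensor (ModuleCat.{u} A)).flip.obj (X.X q)).map_isZero (hE p hp)
  · exact ((curriedTensor (ModuleCat.{u} A)).obj (E.X p)).map_isZero (hX q (by omega))

/-- Tensoring with a bounded flat complex adds amplitudes. -/
lemma exactAt_tensor_of_exactAt {E X : DRing.Cx A} {a b c d : ℤ} (hE : DRing.VanishesOutside E a b)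
    (hEf : DRing.TermwiseFlat E) (hX : ∀ i, i < c ∨ d < i → X.ExactAt i) (i : ℤ) (hi : i < a + c ∨ b + d < i) :
    (E ⊗ X).ExactAt i := by
  have hEK : IsKFlat E := isKFlat_of_vanishesAbove (fun j hj => hE j (Or.inr hj)) hEf
  haveI : X.IsLE d := (CochainComplex.isLE_iff X d).2 fun j hj => hX j (Or.inr hj)
  haveI := (X.quasiIso_ιTruncLE_iff d).2 inferInstance
  haveI : QuasiIso (E ◁ X.ιTruncLE d) := quasiIso_tensor_map_of_isKFlat (X.ιTruncLE d) E hEK
  let X₁ := X.truncLE d
  haveI : X₁.IsGE c := (CochainComplex.isGE_iff X₁ c).2 fun j hj =>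
    (exactAt_iff_of_quasiIso (X.ιTruncLE d) j).2 (hX j (Or.inl hj))
  haveI := (X₁.quasiIso_πTruncGE_iff c).2 inferInstance
  haveI : QuasiIso (E ◁ X₁.πTruncGE c) := quasiIso_tensor_map_of_isKFlat (X₁.πTruncGE c) E hEK
  rw [← exactAt_iff_of_quasiIso (E ◁ X.ιTruncLE d) i, exactAt_iff_of_quasiIso (E ◁ X₁.πTruncGE c) i]
  refine ShortComplex.exact_of_isZero_X₂ _ (vanishesOutside_tensor hE (c := c) (d := d) (fun j hj => ?_) i hi)
  rcases hj with hj | hj
  · exact (X₁.truncGE c).isZero_of_isStrictlyGE c j hj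
  · exact (X₁.truncGE c).isZero_of_isStrictlyLE d j hj

variable {B : Type u} [CommRing B] (φ : A →+* B)

lemma exactAt_restrict_iff (X : DRing.Cx B) (i : ℤ) :
    ((DRing.restrictCx φ).obj X).ExactAt i ↔ X.ExactAt i := by
  rw [HomologicalComplex.exactAt_iff, HomologicalComplex.exactAt_iff]
  exact (X.sc i).exact_map_iff_of_faithful (ModuleCat.restrictScalars φ)

/-- Tor amplitude over `A` of the derived tensor product over `B`. -/
theorem hasTorAmplitudeIn_restrict_lTensorCx {K : Dual.D B} {a b c d : ℤ}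
    (hK : DRing.HasTorAmplitudeIn B a b K) (L : DRing.Cx B)
    (hL : DRing.HasTorAmplitudeIn A c d (DRing.toD ((DRing.restrictCx φ).obj L))) [DRing.HasLTensorCx B L] :
    DRing.HasTorAmplitudeIn A (a + c) (b + d)
      ((DRing.restrictD φ).obj ((DRing.LTensorCx B L).obj K)) := by
  obtain ⟨E, hE, hEf, ⟨e⟩⟩ := hK
  obtain ⟨e'⟩ := lTensorCx_value L (isKFlat_of_vanishesAbove (fun j hj => hE j (Or.inr hj)) hEf)
  refine DR.hasTorAmplitudeIn_of_iso ((DR.restrictToDIso φ (E ⊗ L)).symm ≪≫
    (DRing.restrictD φ).mapIso (e'.symm ≪≫ (DRing.LTensorCx B L).mapIso e)) ?_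
  rw [hasTorAmplitudeIn_iff_resolution] at hL ⊢
  intro N i hi
  let Q := (projectiveResolution N).cochainComplex
  let Q' := ((ModuleCat.extendScalars φ).mapHomologicalComplex (ComplexShape.up ℤ)).obj Q
  have key : ∀ (Y : DRing.Cx B) (j : ℤ), (((DRing.restrictCx φ).obj Y) ⊗ Q).ExactAt j ↔ (Y ⊗ Q').ExactAt j :=
    fun Y j => (exactAt_iff_of_iso (baseChangeTensorIso φ Y Q) j).symm.trans (exactAt_restrict_iff φ _ j)
  rw [key, exactAt_iff_of_iso (α_ E L Q') i]
  exact exactAt_tensor_of_exactAt hE hEf (fun j hj => (key L j).1 (hL N j hj)) i hi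

end GrothLib.KF
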