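import Groth.Agent.Lib.FlatCx.FlatSES
import Groth.Prelude.Def_DRing4
import Mathlib.Algebra.Category.ModuleCat.AB
import Mathlib.Algebra.Category.ModuleCat.Monoidal.Closed
import Mathlib.Algebra.Category.ModuleCat.Monoidal.Symmetric
import Mathlib.Algebra.Homology.ShortComplex.ExactFunctor
import Mathlib.Algebra.Homology.ShortComplex.ModuleCat
import Mathlib.CategoryTheory.Abelian.GrothendieckAxioms.Colim
import Mathlib.RingTheory.Flat.Basic

/-!
# Flat modules and the tensor bifunctor on `ModuleCat R`
-/

set_option autoImplicit false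
universe u

open CategoryTheory CategoryTheory.Limits MonoidalCategory

namespace GrothLib.KF

variable {R : Type u} [CommRing R]

/-- Flatness of an object of `ModuleCat R`. -/
abbrev IsFlat (M : ModuleCat.{u} R) : Prop := Module.Flat R M

/-- The symmetry of the tensor product. -/
noncomputable def tensorSymm : curriedTensor (ModuleCat.{u} R) ≅ (curriedTensor (ModuleCat.{u} R)).flip :=
  BraidedCategory.curriedBraidingNatIso _

instance isLeftAdjoint_tensorLeft (M : ModuleCat.{u} R) : (tensorLeft M).IsLeftAdjoint :=
  ⟨_, ⟨ihom.adjunction M⟩⟩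

instance preservesColimits_tensorBi_obj (M : ModuleCat.{u} R) :
    PreservesColimitsOfSize.{u, u} ((curriedTensor (ModuleCat.{u} R)).obj M) :=
  inferInstanceAs (PreservesColimitsOfSize.{u, u} (tensorLeft M))

instance preservesColimits_tensorBi_flip_obj (N : ModuleCat.{u} R) :
    PreservesColimitsOfSize.{u, u} ((curriedTensor (ModuleCat.{u} R)).flip.obj N) :=
  preservesColimits_of_natIso (tensorSymm.app N)

lemma isFlat_of_iso {M N : ModuleCat.{u} R} (e : M ≅ N) (h : IsFlat M) : IsFlat N :=
  haveI : Module.Flat R M := h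
  Module.Flat.of_linearEquiv e.toLinearEquiv.symm

lemma flat_of_isZero {M : ModuleCat.{u} R} (h : IsZero M) : IsFlat M := by
  haveI := ModuleCat.subsingleton_of_isZero h
  exact inferInstanceAs (Module.Flat R M)

theorem isFlat_iff (N : ModuleCat.{u} R) :
    IsFlat N ↔ ((curriedTensor (ModuleCat.{u} R)).flip.obj N).PreservesMonomorphisms := by
  refine ⟨fun h => ⟨fun {X Y} f hf => ?_⟩, fun h => ?_⟩
  · haveI : Module.Flat R N := h
    rw [ModuleCat.mono_iff_injective] at hf ⊢
    exact Module.Flat.rTensor_preserves_injective_linearMap (M := N) f.hom hf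
  · rw [IsFlat, Module.Flat.iff_rTensor_preserves_injective_linearMap]
    intro X Y _ _ _ _ f hf
    haveI : Mono (ModuleCat.ofHom f) := (ModuleCat.mono_iff_injective _).2 hf
    exact (ModuleCat.mono_iff_injective _).1
      (((curriedTensor (ModuleCat.{u} R)).flip.obj N).map_mono (ModuleCat.ofHom f))

theorem isFlat_of_isColimit {K : Type u} [SmallCategory K]
    [(colim : (K ⥤ ModuleCat.{u} R) ⥤ _).PreservesMonomorphisms]
    (F : K ⥤ ModuleCat.{u} R) (hF : ∀ k, IsFlat (F.obj k)) (c : Cocone F) (hc : IsColimit c) :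
    IsFlat c.pt := by
  rw [isFlat_iff]
  refine ⟨fun {M M'} f _ => ?_⟩
  let φ : F ⋙ (curriedTensor (ModuleCat.{u} R)).obj M ⟶ F ⋙ (curriedTensor (ModuleCat.{u} R)).obj M' :=
    Functor.whiskerLeft F ((curriedTensor (ModuleCat.{u} R)).map f)
  have : ∀ k, Mono (φ.app k) := fun k => by
    have := (isFlat_iff _).1 (hF k)
    exact ((curriedTensor (ModuleCat.{u} R)).flip.obj (F.obj k)).map_mono f
  have : Mono φ := NatTrans.mono_of_mono_app φ
  exact colim.map_mono' φ (isColimitOfPreserves ((curriedTensor (ModuleCat.{u} R)).obj M) hc)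
    (isColimitOfPreserves ((curriedTensor (ModuleCat.{u} R)).obj M') hc)
    (((curriedTensor (ModuleCat.{u} R)).map f).app c.pt)
    fun k => ((curriedTensor (ModuleCat.{u} R)).map f).naturality (c.ι.app k)

theorem isFlat_middle_of_shortExact (S : ShortComplex (ModuleCat.{u} R)) (hS : S.ShortExact)
    (h₁ : IsFlat S.X₁) (h₃ : IsFlat S.X₃) : IsFlat S.X₂ :=
  haveI : Module.Flat R S.X₁ := h₁
  haveI : Module.Flat R S.X₃ := h₃
  FlatCx.flat_of_exact_mid (g := S.f.hom) (f := S.g.hom) ((ModuleCat.mono_iff_injective _).1 hS.mono_f)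
    ((ModuleCat.epi_iff_surjective _).1 hS.epi_g)
    ((ShortComplex.ShortExact.moduleCat_exact_iff_function_exact S).1 hS.exact)

/-- A short exact sequence with flat cokernel stays short exact after tensoring. -/
theorem tensor_left_shortExact (M : ModuleCat.{u} R) {S : ShortComplex (ModuleCat.{u} R)}
    (hS : S.ShortExact) (h₃ : IsFlat S.X₃) :
    (S.map ((curriedTensor (ModuleCat.{u} R)).obj M)).ShortExact := by
  haveI : Module.Flat R S.X₃ := h₃
  have hg := (ModuleCat.epi_iff_surjective _).1 hS.epi_g
  have hf := (ModuleCat.mono_iff_injective _).1 hS.mono_f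
  have hex := (ShortComplex.ShortExact.moduleCat_exact_iff_function_exact S).1 hS.exact
  exact
    { exact := (ShortComplex.ShortExact.moduleCat_exact_iff_function_exact _).2 (lTensor_exact M hex hg)
      mono_f := (ModuleCat.mono_iff_injective _).2
        (LinearMap.lTensor_injective_of_exact_of_flat S.g.hom hg S.f.hom hf hex M)
      epi_g := (ModuleCat.epi_iff_surjective _).2 (LinearMap.lTensor_surjective M hg) }

/-- Tensoring with a flat module on the right is exact. -/
theorem tensor_map_shortExact {F : ModuleCat.{u} R} (hF : IsFlat F) {S : ShortComplex (ModuleCat.{u} R)}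
    (hS : S.ShortExact) [((curriedTensor (ModuleCat.{u} R)).flip.obj F).PreservesZeroMorphisms] :
    (S.map ((curriedTensor (ModuleCat.{u} R)).flip.obj F)).ShortExact := by
  haveI : Module.Flat R F := hF
  have hg := (ModuleCat.epi_iff_surjective _).1 hS.epi_g
  have hex := (ShortComplex.ShortExact.moduleCat_exact_iff_function_exact S).1 hS.exact
  exact
    { exact := (ShortComplex.ShortExact.moduleCat_exact_iff_function_exact _).2 (rTensor_exact F hex hg)
      mono_f := (ModuleCat.mono_iff_injective _).2
        (Module.Flat.rTensor_preserves_injective_linearMap (M := F) S.f.hom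
          ((ModuleCat.mono_iff_injective _).1 hS.mono_f))
      epi_g := (ModuleCat.epi_iff_surjective _).2 (LinearMap.rTensor_surjective F hg) }

/-- A free module covering `M`. -/
noncomputable def coverObj (M : ModuleCat.{u} R) : ModuleCat.{u} R := ModuleCat.of R (M →₀ R)

/-- The covering map. -/
noncomputable def coverπ (M : ModuleCat.{u} R) : coverObj M ⟶ M :=
  ModuleCat.ofHom (Finsupp.linearCombination R id)

instance epi_coverπ (M : ModuleCat.{u} R) : Epi (coverπ M) :=
  (ModuleCat.epi_iff_surjective _).2 fun m => ⟨Finsupp.single m 1, by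
    show Finsupp.linearCombination R id (Finsupp.single m 1) = m
    simp⟩

theorem flat_coverObj (M : ModuleCat.{u} R) : IsFlat (coverObj M) :=
  inferInstanceAs (Module.Flat R (M →₀ R))

end GrothLib.KF
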