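import Groth.Agent.Lib.DCxKFlat.Bridge
import Groth.Agent.Lib.DCxRing.Basic
import Groth.Agent.Lib.Derive.LeftCx
import Mathlib.Algebra.Homology.BifunctorHomotopy

/-!
# Derived tensor products over a ring, computed by K-flat complexes
-/

set_option autoImplicit false
set_option maxHeartbeats 800000
universe u

open CategoryTheory CategoryTheory.Limits MonoidalCategory HomologicalComplex

attribute [local instance] HasDerivedCategory.standard

namespace GrothLib.KF

variable {A : Type u} [CommRing A]

/-- The functor `- ⊗ E` on complexes is derived by K-flat complexes. -/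
theorem cxResolvable (E : DRing.Cx A) :
    Derive.CxResolvable (fun P : DRing.Cx A => IsKFlat P) (DRing.tensorCxQ A E) where
  homotopy K L f g := fun ⟨h⟩ => DerivedCategory.Q_map_eq_of_homotopy _
    (mapBifunctorMapHomotopy₁ (f₁ := f) (f₁' := g) h (𝟙 E) (curriedTensor (ModuleCat.{u} A)) (ComplexShape.up ℤ))
  exists_res K := by
    obtain ⟨P, q, hP, -, hq, -⟩ := exists_kflat_resolution K
    exact ⟨P, q, hP, hq⟩
  inverts K L φ hK hL hφ := by
    haveI := hφ
    haveI : QuasiIso (φ ▷ E) := (quasiIso_iff_of_arrow_mk_iso _ _ (Arrow.isoMk ((tensorFlipIso E).app K)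
      ((tensorFlipIso E).app L) ((tensorFlipIso E).hom.naturality φ).symm)).2 (quasiIso_tensor_map φ hK hL E)
    exact inferInstanceAs (IsIso (DerivedCategory.Q.map (φ ▷ E)))

theorem hasLTensorCx (E : DRing.Cx A) : DRing.HasLTensorCx A E := (cxResolvable E).hasLeftDerivedFunctor

/-- The derived tensor product with `E` on a K-flat complex. -/
theorem lTensorCx_value (E : DRing.Cx A) [DRing.HasLTensorCx A E] {K : DRing.Cx A} (hK : IsKFlat K) :
    Nonempty ((DRing.LTensorCx A E).obj (DRing.toD K) ≅ DRing.toD (K ⊗ E)) :=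
  (cxResolvable E).totalLeftDerived_value hK

/-- When `E` is K-flat, the derived tensor product with `E` is the tensor product. -/
theorem lTensorCx_value_of_isKFlat (E : DRing.Cx A) [DRing.HasLTensorCx A E] (hE : IsKFlat E) (K : DRing.Cx A) :
    Nonempty ((DRing.LTensorCx A E).obj (DRing.toD K) ≅ DRing.toD (K ⊗ E)) := by
  obtain ⟨P, q, hP, -, hq, -⟩ := exists_kflat_resolution K
  obtain ⟨e⟩ := lTensorCx_value E hP
  haveI := hq
  haveI : QuasiIso (q ▷ E) := quasiIso_map_of_isKFlat q E hE
  exact ⟨(DRing.LTensorCx A E).mapIso (asIso (DerivedCategory.Q.map q)).symm ≪≫ e ≪≫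
    asIso (DerivedCategory.Q.map (q ▷ E))⟩

/-- A quasi-isomorphism of K-flat complexes stays one after tensoring with a module. -/
theorem quasiIso_map_tensorRight {P Q : DRing.Cx A} (φ : P ⟶ Q) [QuasiIso φ] (hP : IsKFlat P) (hQ : IsKFlat Q)
    (M : ModuleCat.{u} A) : QuasiIso (((tensorRight M).mapHomologicalComplex (ComplexShape.up ℤ)).map φ) := by
  rw [DerCat.quasiIso_iff_acyclic_mappingCone]
  exact DerCat.acyclic_of_iso (CochainComplex.mappingCone.mapHomologicalComplexIso φ (tensorRight M))
    (DerCat.acyclic_of_iso (singleIso (CochainComplex.mappingCone φ) M).symm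
      (DerCat.acyclic_of_iso (tensorCxSymm (CochainComplex.mappingCone φ) _)
        (acyclic_tensor_of_acyclic_isKFlat ((DerCat.quasiIso_iff_acyclic_mappingCone φ).1 inferInstance)
          (isKFlat_mappingCone φ hP hQ)
          ((single (ModuleCat.{u} A) (ComplexShape.up ℤ) 0).obj M))))

/-- The functor `- ⊗ M` on the homotopy category is derived by K-flat complexes. -/
theorem leftResolvable (M : ModuleCat.{u} A) :
    Derive.LeftResolvable (HomotopyCategory.quasiIso (ModuleCat.{u} A) (ComplexShape.up ℤ))
      (fun P => IsKFlat P.as) (DRing.tensorKh A M) where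
  exists_res G := by
    obtain ⟨Q, p, hQ, -, hp, -⟩ := exists_kflat_resolution G.as
    exact ⟨(HomotopyCategory.quotient _ _).obj Q, (HomotopyCategory.quotient _ _).map p, hQ,
      (HomotopyCategory.quotient_map_mem_quasiIso_iff p).2 hp⟩
  inverts Q Q' s hQ hQ' hs := by
    obtain ⟨φ, rfl⟩ := (HomotopyCategory.quotient (ModuleCat.{u} A) (ComplexShape.up ℤ)).map_surjective s
    haveI : QuasiIso φ := (HomotopyCategory.quotient_map_mem_quasiIso_iff φ).1 hs
    have hM := quasiIso_map_tensorRight φ hQ hQ' M
    exact Localization.inverts DerivedCategory.Qh (HomotopyCategory.quasiIso (ModuleCat.{u} A) (ComplexShape.up ℤ)) _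
      ((HomotopyCategory.quotient_map_mem_quasiIso_iff
        (((tensorRight M).mapHomologicalComplex (ComplexShape.up ℤ)).map φ)).2 hM)

theorem hasLTensor (M : ModuleCat.{u} A) : DRing.HasLTensor A M := (leftResolvable M).hasLeftDerivedFunctor

/-- The derived tensor product with `M` on a K-flat complex. -/
theorem lTensor_value (M : ModuleCat.{u} A) [DRing.HasLTensor A M] {K : DRing.Cx A} (hK : IsKFlat K) :
    Nonempty ((DRing.LTensor A M).obj (DRing.toD K) ≅ DRing.toD (DRing.tensorCx K M)) := by
  haveI := (leftResolvable M).isIso_app_of_isLeftDerivedFunctor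
    (DRing.LTensor A M) ((DRing.tensorKh A M).totalLeftDerivedCounit DerivedCategory.Qh
      (HomotopyCategory.quasiIso (ModuleCat.{u} A) (ComplexShape.up ℤ)))
    (Q := (HomotopyCategory.quotient (ModuleCat.{u} A) (ComplexShape.up ℤ)).obj K) hK
  exact ⟨(DRing.LTensor A M).mapIso ((DerivedCategory.quotientCompQhIso (ModuleCat.{u} A)).app K).symm ≪≫
    asIso (((DRing.tensorKh A M).totalLeftDerivedCounit DerivedCategory.Qh
      (HomotopyCategory.quasiIso (ModuleCat.{u} A) (ComplexShape.up ℤ))).app
        ((HomotopyCategory.quotient (ModuleCat.{u} A) (ComplexShape.up ℤ)).obj K)) ≪≫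
    (DerivedCategory.quotientCompQhIso (ModuleCat.{u} A)).app
      (((tensorRight M).mapHomologicalComplex (ComplexShape.up ℤ)).obj K)⟩

end GrothLib.KF
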