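import Groth.Agent.Lib.DCxKFlat.Amplitude
import Groth.Agent.Lib.DCxRing.Perfect
import Mathlib.Data.Int.Interval

/-!
# Derived tensor products of perfect and of pseudo-coherent objects
-/

set_option autoImplicit false
set_option maxHeartbeats 800000
universe u

open CategoryTheory CategoryTheory.Limits MonoidalCategory HomologicalComplex

attribute [local instance] HasDerivedCategory.standard

namespace GrothLib.KF

variable {A : Type u} [CommRing A]

/-- A coproduct with finitely many non-zero finite projective summands. -/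
theorem finiteProjective_sigma (f : ℤ → ModuleCat.{u} A) (s : Finset ℤ) (hs : ∀ p, p ∉ s → IsZero (f p))
    (hf : ∀ p, Module.Finite A (f p) ∧ Module.Projective A (f p)) :
    Module.Finite A (∐ f : ModuleCat.{u} A) ∧ Module.Projective A (∐ f : ModuleCat.{u} A) := by
  haveI : ∀ p, Projective (f p) := fun p => (DR.projective_iff _).1 (hf p).2
  have hpr : Projective (∐ f) :=
    ⟨fun u e _ => ⟨Sigma.desc fun p => Projective.factorThru (Sigma.ι f p ≫ u) e, by cat_disch⟩⟩
  refine ⟨?_, (DR.projective_iff _).2 hpr⟩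
  let g : (⨁ fun p : s => f p.1) ⟶ ∐ f := biproduct.desc fun p => Sigma.ι f p.1
  haveI : Epi g := ⟨fun {W} u v huv => Sigma.hom_ext _ _ fun p => by
    by_cases hp : p ∈ s
    · have h := congrArg (fun t => biproduct.ι (fun p : s => f p.1) ⟨p, hp⟩ ≫ t) huv
      simpa [g] using h
    · exact (hs p hp).eq_of_src _ _⟩
  haveI : ∀ p : s, Module.Finite A (f p.1) := fun p => (hf p.1).1
  haveI : Module.Finite A (⨁ fun p : s => f p.1 : ModuleCat.{u} A) :=
    Module.Finite.equiv (ModuleCat.biproductIsoPi fun p : s => f p.1).toLinearEquiv.symm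
  exact Module.Finite.of_surjective g.hom ((ModuleCat.epi_iff_surjective g).1 inferInstance)

/-- The tensor product of bounded above complexes of finite projective modules. -/
theorem termwiseFiniteProjective_tensor {E P : DRing.Cx A} {b d : ℤ} (hE : DRing.VanishesAbove E b)
    (hP : DRing.VanishesAbove P d) (hEf : DRing.TermwiseFiniteProjective E)
    (hPf : DRing.TermwiseFiniteProjective P) :
    DRing.VanishesAbove (E ⊗ P) (b + d) ∧ DRing.TermwiseFiniteProjective (E ⊗ P) := by
  refine ⟨fun n hn => ?_, fun n => ?_⟩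
  · refine (IsZero.iff_id_eq_zero _).2 (HomologicalComplex.mapBifunctor.hom_ext fun p q h => ?_)
    have h' : p + q = n := h
    refine IsZero.eq_of_src ?_ _ _
    by_cases hp : b < p
    · exact ((curriedTensor (ModuleCat.{u} A)).flip.obj (P.X q)).map_isZero (hE p hp)
    · exact ((curriedTensor (ModuleCat.{u} A)).obj (E.X p)).map_isZero (hP q (by omega))
  · obtain ⟨hfin, hproj⟩ := finiteProjective_sigma
      (fun p => ((curriedTensor (ModuleCat.{u} A)).obj (E.X p)).obj (P.X (n - p))) (Finset.Icc (n - d) b)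
      (fun p hp => by
        rw [Finset.mem_Icc] at hp
        by_cases hpb : b < p
        · exact ((curriedTensor (ModuleCat.{u} A)).flip.obj (P.X (n - p))).map_isZero (hE p hpb)
        · exact ((curriedTensor (ModuleCat.{u} A)).obj (E.X p)).map_isZero (hP _ (by omega)))
      (fun p => by
        haveI := (hEf p).1
        haveI := (hEf p).2
        haveI := (hPf (n - p)).1
        haveI := (hPf (n - p)).2
        exact ⟨inferInstanceAs (Module.Finite A (TensorProduct A (E.X p) (P.X (n - p)))),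
          inferInstanceAs (Module.Projective A (TensorProduct A (E.X p) (P.X (n - p))))⟩)
    let e : (∐ fun p => ((curriedTensor (ModuleCat.{u} A)).obj (E.X p)).obj (P.X (n - p))) ≅ (E ⊗ P).X n :=
      (degIso E n).app P
    haveI := hfin
    haveI := hproj
    exact ⟨Module.Finite.equiv e.toLinearEquiv, Module.Projective.of_equiv e.toLinearEquiv⟩

/-- The derived tensor product through finite projective representatives. -/
theorem nonempty_lTensorCx_iso {K : Dual.D A} {L : DRing.Cx A} [DRing.HasLTensorCx A L] {E P : DRing.Cx A} {b d : ℤ}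
    (hE : DRing.VanishesAbove E b) (hEf : DRing.TermwiseFlat E) (e : DRing.toD E ≅ K)
    (hP : DRing.VanishesAbove P d) (hPp : ∀ i, Module.Projective A (P.X i)) (e' : DRing.toD P ≅ DRing.toD L) :
    Nonempty (DRing.toD (E ⊗ P) ≅ (DRing.LTensorCx A L).obj K) := by
  have hEK := isKFlat_of_vanishesAbove hE hEf
  obtain ⟨i⟩ := lTensorCx_value L hEK
  haveI := DR.isKProjective P d hP hPp
  obtain ⟨f, hf⟩ := DR.exists_lift P e'.hom
  haveI : QuasiIso f := (DerivedCategory.isIso_Q_map_iff_quasiIso (ModuleCat.{u} A) f).1 (by rw [hf]; infer_instance)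
  have hEf' : QuasiIso (E ◁ f) := quasiIso_tensor_map_of_isKFlat f E hEK
  have hiso : IsIso (DerivedCategory.Q.map (E ◁ f)) :=
    (DerivedCategory.isIso_Q_map_iff_quasiIso (ModuleCat.{u} A) (E ◁ f)).2 hEf'
  exact ⟨(@asIso _ _ _ _ _ hiso) ≪≫ i.symm ≪≫ (DRing.LTensorCx A L).mapIso e⟩

theorem isPseudoCoherent'_lTensorCx {K : Dual.D A} (hK : DRing.IsPseudoCoherent' A K) {L : DRing.Cx A}
    (hL : DRing.IsPseudoCoherent' A (DRing.toD L)) [DRing.HasLTensorCx A L] :
    DRing.IsPseudoCoherent' A ((DRing.LTensorCx A L).obj K) := by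
  obtain ⟨E, b, hE, hEf, ⟨e⟩⟩ := hK
  obtain ⟨P, d, hP, hPf, ⟨e'⟩⟩ := hL
  obtain ⟨hv, hf⟩ := termwiseFiniteProjective_tensor hE hP
    (fun i => ⟨(hEf i).1, DR.projective_of_finiteFree hEf i⟩)
    (fun i => ⟨(hPf i).1, DR.projective_of_finiteFree hPf i⟩)
  obtain ⟨i⟩ := nonempty_lTensorCx_iso (K := K) (L := L) hE
    (DR.termwiseFlat_of_projective fun i => DR.projective_of_finiteFree hEf i) e hP
    (fun i => DR.projective_of_finiteFree hPf i) e'
  exact DR.isPseudoCoherent'_of_forall fun m =>
    DerBC.isPseudoCoherent_of_iso i (DR.isPseudoCoherent_of_finiteProjective hv hf m)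

theorem isPerfect_lTensorCx {K : Dual.D A} (hK : DRing.IsPerfect A K) {L : DRing.Cx A}
    (hL : DRing.IsPerfect A (DRing.toD L)) [DRing.HasLTensorCx A L] :
    DRing.IsPerfect A ((DRing.LTensorCx A L).obj K) := by
  obtain ⟨E, a, b, hE, hEf, ⟨e⟩⟩ := hK
  obtain ⟨P, c, d, hP, hPf, ⟨e'⟩⟩ := hL
  obtain ⟨-, hf⟩ := termwiseFiniteProjective_tensor (b := b) (d := d) (fun i hi => hE i (Or.inr hi))
    (fun i hi => hP i (Or.inr hi)) hEf hPf
  obtain ⟨i⟩ := nonempty_lTensorCx_iso (K := K) (L := L) (b := b) (d := d) (fun i hi => hE i (Or.inr hi))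
    (DR.termwiseFlat_of_projective fun i => (hEf i).2) e (fun i hi => hP i (Or.inr hi))
    (fun i => (hPf i).2) e'
  exact ⟨E ⊗ P, a + c, b + d, vanishesOutside_tensor hE hP, hf, ⟨i⟩⟩

end GrothLib.KF
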