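import Groth.Agent.Lib.DCxKFlat.Base
import Groth.Agent.Lib.DerCat.Acyclic
import Groth.Prelude.Def_KFlatSite
import Mathlib.CategoryTheory.Abelian.GrothendieckAxioms.Colim
import Mathlib.CategoryTheory.Limits.FunctorCategory.Basic
import Mathlib.Algebra.Homology.BifunctorShift
import Mathlib.Algebra.Homology.HomologicalComplexBiprod
import Mathlib.CategoryTheory.Category.ULift

/-! # The tensor product of complexes of modules: colimits and exactness -/

set_option autoImplicit false
universe u

open CategoryTheory CategoryTheory.Limits MonoidalCategory HomologicalComplex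

namespace GrothLib.KF

variable {R : Type u} [CommRing R]

attribute [local instance] Abelian.hasFiniteBiproducts

instance hasMapBifunctor (L K : CochainComplex (ModuleCat.{u} R) ℤ) :
    HasMapBifunctor L K (curriedTensor (ModuleCat.{u} R)) (ComplexShape.up ℤ) :=
  fun _ => inferInstance

/-- The tensor product of complexes as a bifunctor. -/
noncomputable abbrev tensorCx : CochainComplex (ModuleCat.{u} R) ℤ ⥤
    CochainComplex (ModuleCat.{u} R) ℤ ⥤ CochainComplex (ModuleCat.{u} R) ℤ :=
  (curriedTensor (ModuleCat.{u} R)).map₂CochainComplex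

/-- `K` is K-flat. -/
abbrev IsKFlat (K : CochainComplex (ModuleCat.{u} R) ℤ) : Prop :=
  ∀ L : CochainComplex (ModuleCat.{u} R) ℤ, (∀ i : ℤ, IsZero (L.homology i)) →
    ∀ i : ℤ, IsZero ((((tensorCx (R := R)).obj L).obj K).homology i)

instance hasExactColimitsOfShape_nat : HasExactColimitsOfShape ℕ (ModuleCat.{u} R) :=
  have : HasExactColimitsOfShape (ULiftHom.{u} (ULift.{u} ℕ)) (ModuleCat.{u} R) := AB5OfSize.ofShape _
  HasExactColimitsOfShape.of_domain_equivalence (ModuleCat.{u} R) (ULiftHomULiftCategory.equiv.{u, u} ℕ).symm

instance hasExactColimitsOfShape_discrete_int : HasExactColimitsOfShape (Discrete ℤ) (ModuleCat.{u} R) :=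
  have : AB4 (ModuleCat.{u} R) := AB4.of_AB5 _
  have : HasExactColimitsOfShape (Discrete (ULift.{u} ℤ)) (ModuleCat.{u} R) := AB4OfSize.ofShape _
  HasExactColimitsOfShape.of_domain_equivalence (ModuleCat.{u} R) (Discrete.equivalence Equiv.ulift)

variable (L : CochainComplex (ModuleCat.{u} R) ℤ) (n : ℤ)

/-- The family of summands of degree `n` of the tensor product with `L`. -/
noncomputable def summandsFun : CochainComplex (ModuleCat.{u} R) ℤ ⥤ (Discrete ℤ ⥤ (ModuleCat.{u} R)) where
  obj K := Discrete.functor fun p => ((curriedTensor (ModuleCat.{u} R)).obj (L.X p)).obj (K.X (n - p))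
  map f := Discrete.natTrans fun p => ((curriedTensor (ModuleCat.{u} R)).obj (L.X p.as)).map (f.f (n - p.as))

/-- The degree `n` part of the tensor product with `L` is a coproduct. -/
noncomputable def degIso :
    summandsFun L n ⋙ colim ≅ (tensorCx (R := R)).obj L ⋙ HomologicalComplex.eval (ModuleCat.{u} R) (ComplexShape.up ℤ) n :=
  NatIso.ofComponents
    (fun K =>
      { hom := Sigma.desc fun p => HomologicalComplex.ιMapBifunctor L K (curriedTensor (ModuleCat.{u} R)) (ComplexShape.up ℤ) p (n - p) n
          (show p + (n - p) = n by omega)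
        inv := HomologicalComplex.mapBifunctorDesc fun p q h =>
          ((curriedTensor (ModuleCat.{u} R)).obj (L.X p)).map (eqToHom (congrArg K.X (show q = n - p by
            have h' : p + q = n := h
            omega))) ≫
            Sigma.ι (fun p => ((curriedTensor (ModuleCat.{u} R)).obj (L.X p)).obj (K.X (n - p))) p
        hom_inv_id := Sigma.hom_ext _ _ fun p => by
          erw [Sigma.ι_desc_assoc, HomologicalComplex.ι_mapBifunctorDesc, Category.comp_id]
          rw [eqToHom_refl, CategoryTheory.Functor.map_id, Category.id_comp]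
        inv_hom_id := by
          refine HomologicalComplex.mapBifunctor.hom_ext fun p q h => ?_
          obtain rfl : q = n - p := by
            have h' : p + q = n := h
            omega
          erw [← Category.assoc, HomologicalComplex.ι_mapBifunctorDesc, Category.assoc, Sigma.ι_desc, Category.comp_id]
          rw [eqToHom_refl, CategoryTheory.Functor.map_id, Category.id_comp] })
    (fun {K K'} f => colimit.hom_ext fun ⟨p⟩ => by
      change colimit.ι ((summandsFun L n).obj K) ⟨p⟩ ≫ colimMap ((summandsFun L n).map f) ≫ _ = _
      simp [summandsFun]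
      erw [HomologicalComplex.ι_mapBifunctorMap]
      simp
      rfl)

instance preservesColimitsOfSize_summandsFun : PreservesColimitsOfSize.{u, u} (summandsFun L n) where
  preservesColimitsOfShape {J} _ := preservesColimitsOfShape_of_evaluation _ _ fun p =>
    preservesColimitsOfShape_of_natIso (J := J)
      (F := HomologicalComplex.eval (ModuleCat.{u} R) (ComplexShape.up ℤ) (n - p.as) ⋙ (curriedTensor (ModuleCat.{u} R)).obj (L.X p.as))
      (NatIso.ofComponents fun _ => Iso.refl _)

instance preservesColimitsOfSize_tensorCx_obj :
    PreservesColimitsOfSize.{u, u} ((tensorCx (R := R)).obj L) where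
  preservesColimitsOfShape {J} _ := ⟨fun {K} => ⟨fun {c} hc => ⟨HomologicalComplex.isColimitOfEval _ _ fun m =>
    have : PreservesColimitsOfShape J (summandsFun L m ⋙ colim) := comp_preservesColimitsOfShape _ _
    have : PreservesColimitsOfShape J ((tensorCx (R := R)).obj L ⋙ HomologicalComplex.eval (ModuleCat.{u} R) (ComplexShape.up ℤ) m) :=
      preservesColimitsOfShape_of_natIso (degIso L m)
    isColimitOfPreserves ((tensorCx (R := R)).obj L ⋙ HomologicalComplex.eval (ModuleCat.{u} R) (ComplexShape.up ℤ) m) hc⟩⟩⟩

instance preservesSmallestColimits_tensorBi_obj (N : (ModuleCat.{u} R)) :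
    PreservesColimitsOfSize.{0, 0} ((curriedTensor (ModuleCat.{u} R)).obj N) :=
  preservesSmallestColimits_of_preservesColimits _

instance preservesSmallestColimits_tensorCx_obj  :
    PreservesColimitsOfSize.{0, 0} ((tensorCx (R := R)).obj L) :=
  preservesSmallestColimits_of_preservesColimits _

instance additive_tensorCx_obj  : ((tensorCx (R := R)).obj L).Additive := by
  haveI : ((tensorCx (R := R)).obj L).PreservesZeroMorphisms :=
    Functor.preservesZeroMorphisms_of_preserves_initial_object
  haveI : HasBinaryBiproducts (ModuleCat.{u} R) := inferInstance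
  haveI : HasBinaryBiproducts (CochainComplex (ModuleCat.{u} R) ℤ) := ⟨fun K K' => inferInstance⟩
  haveI := preservesBinaryBiproducts_of_preservesBinaryCoproducts ((tensorCx (R := R)).obj L)
  exact Functor.additive_of_preservesBinaryBiproducts _

/-- Tensoring with a complex is exact on sequences whose terms are exact for the tensor product. -/
theorem tensorCx_map_shortExact (S : ShortComplex (CochainComplex (ModuleCat.{u} R) ℤ))
    (h : ∀ (M : (ModuleCat.{u} R)) (q : ℤ),
      ((S.map (HomologicalComplex.eval (ModuleCat.{u} R) (ComplexShape.up ℤ) q)).map ((curriedTensor (ModuleCat.{u} R)).obj M)).ShortExact) :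
    (S.map ((tensorCx (R := R)).obj L)).ShortExact := by
  refine HomologicalComplex.shortExact_of_degreewise_shortExact _ fun m => ?_
  have : (summandsFun L m).PreservesZeroMorphisms := ⟨fun K K' => NatTrans.ext (funext fun p =>
    (((curriedTensor (ModuleCat.{u} R)).obj (L.X p.as)).map_zero _ _))⟩
  have hS : (S.map (summandsFun L m)).ShortExact :=
    { exact := by
        rw [ShortComplex.exact_iff_isZero_homology]
        refine Functor.isZero _ fun p => ?_
        exact IsZero.of_iso ((ShortComplex.exact_iff_isZero_homology _).1 (h (L.X p.as) (m - p.as)).exact)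
          ((S.map (summandsFun L m)).mapHomologyIso ((evaluation _ _).obj p)).symm
      mono_f := (NatTrans.mono_iff_mono_app _).2 fun p => (h (L.X p.as) (m - p.as)).mono_f
      epi_g := (NatTrans.epi_iff_epi_app _).2 fun p => (h (L.X p.as) (m - p.as)).epi_g }
  exact ShortComplex.shortExact_of_iso
    (ShortComplex.isoMk ((degIso L m).app _) ((degIso L m).app _) ((degIso L m).app _)
      ((degIso L m).hom.naturality S.f).symm ((degIso L m).hom.naturality S.g).symm)
    (hS.map_of_exact (colim (J := Discrete ℤ) (C := (ModuleCat.{u} R))))

end GrothLib.KF
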